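import Groth.Agent.H18.AffAlgBij
import Groth.Agent.H18.RelSpecGamma
import Mathlib.AlgebraicGeometry.Morphisms.IsIso

/-!
# Affine hulls and an isomorphism criterion for schemes affine over a base (helper71)

* `exists_toHull`: for a qcqs `g : W ⟶ X` the canonical `c : W ⟶ Spec_X(g_* O_W)` over `X`, inducing
  isomorphisms `Γ(Spec(g_*O_W), π⁻¹ V) ≅ Γ(W, g⁻¹ V)` for all opens `V` of `X`.
* `isIso_of_affine_over`: a morphism `h : Q ⟶ P` of schemes affine over `S` is an isomorphism as soon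
  as it induces isomorphisms on the sections over the preimages of enough affine opens of `S`.
-/

set_option autoImplicit false
universe u

namespace Groth.Agent.H71.Pure

open CategoryTheory AlgebraicGeometry TopologicalSpace Opposite Limits

section Hull

variable {W X : Scheme.{u}} (g : W ⟶ X) [QuasiCompact g] [QuasiSeparated g]

/-- the affine hull `Spec_X (g_* O_W)` of a qcqs morphism `g : W ⟶ X` -/
noncomputable abbrev hull : Scheme.{u} := (RelSpec.QCAlg.directImage g).spec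

/-- the structure morphism of the affine hull -/
noncomputable abbrev hullπ : hull g ⟶ X := (RelSpec.QCAlg.directImage g).π

theorem exists_toHull :
    ∃ (c : W ⟶ hull g) (e : c ≫ hullπ g = g), ∀ V : X.Opens,
      IsIso (c.appLE (hullπ g ⁻¹ᵁ V) (g ⁻¹ᵁ V) (by rw [← Scheme.Hom.comp_preimage, e])) := by
  obtain ⟨⟨c, e⟩, hc⟩ := Groth.Agent.H18.algOf_surjective (hullπ g) g
    ⟨(RelSpec.QCAlg.directImage g).gammaMap, (RelSpec.QCAlg.directImage g).π_c_gammaMap⟩
  have hc' : AffAlg.algHom (hullπ g) g c e = (RelSpec.QCAlg.directImage g).gammaMap :=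
    congrArg Subtype.val hc
  refine ⟨c, e, fun V => ?_⟩
  have h1 := Groth.Agent.H18.algHom_app_eq_appLE (hullπ g) g c e V
  rw [hc'] at h1
  rw [← h1]
  haveI := Groth.Agent.H18.isIso_gammaMap (RelSpec.QCAlg.directImage g)
  exact NatIso.isIso_app_of_isIso (RelSpec.QCAlg.directImage g).gammaMap (op V)

end Hull

section Crit

variable {P Q S : Scheme.{u}}

theorem isIso_appTop_morphismRestrict (h : Q ⟶ P) (𝒱 : P.Opens) (hs : IsIso (h.app 𝒱)) :
    IsIso (h ∣_ 𝒱).appTop := by
  rw [morphismRestrict_appTop]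
  have key : ∀ (W' : P.Opens), W' = 𝒱 → IsIso (h.app W') := by
    rintro W' rfl; exact hs
  have h1 := key (𝒱.ι ''ᵁ ⊤) (by simp)
  have h2 : IsIso (Q.presheaf.map (eqToHom (image_morphismRestrict_preimage h 𝒱 ⊤)).op) := by
    rw [eqToHom_op, eqToHom_map]; infer_instance
  exact IsIso.comp_isIso' h1 h2

/-- isomorphism criterion for a morphism between schemes affine over a base -/
theorem isIso_of_affine_over (f : P ⟶ S) [IsAffineHom f] (g : Q ⟶ S) [IsAffineHom g] (h : Q ⟶ P)
    (w : h ≫ f = g)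
    (H : ∀ s : S, ∃ O : S.Opens, IsAffineOpen O ∧ s ∈ O ∧ IsIso (h.app (f ⁻¹ᵁ O))) :
    IsIso h := by
  choose O hO hsO hiso using H
  let 𝒱 : S → P.affineOpens := fun s => ⟨f ⁻¹ᵁ O s, (hO s).preimage f⟩
  have hcov : ⨆ s, ((𝒱 s : P.affineOpens) : P.Opens) = ⊤ := by
    rw [eq_top_iff]
    intro p _
    exact Opens.mem_iSup.mpr ⟨f p, hsO (f p)⟩
  have := (HasAffineProperty.iff_of_iSup_eq_top (P := MorphismProperty.isomorphisms Scheme.{u})
    (f := h) 𝒱 hcov).mpr ?_
  · exact this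
  · intro s
    refine ⟨?_, isIso_appTop_morphismRestrict h _ (hiso s)⟩
    have : h ⁻¹ᵁ (f ⁻¹ᵁ O s) = g ⁻¹ᵁ O s := by rw [← Scheme.Hom.comp_preimage, w]
    show IsAffineOpen (h ⁻¹ᵁ (f ⁻¹ᵁ O s))
    rw [this]
    exact (hO s).preimage g

end Crit

end Groth.Agent.H71.Pure
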