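import Groth.Agent.H71.Pure.Ext
import Groth.Prelude.Def_FEt
import Mathlib.AlgebraicGeometry.Morphisms.LocalFlatDescent
import Mathlib.AlgebraicGeometry.Morphisms.FlatDescent
import Mathlib.AlgebraicGeometry.Morphisms.Proper
import Mathlib.AlgebraicGeometry.Morphisms.Etale

/-!
# fpqc descent of essential surjectivity of restriction of finite étale covers (helper71)
-/

set_option autoImplicit false
universe u

namespace Groth.Agent.H71.Pure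

open CategoryTheory AlgebraicGeometry TopologicalSpace Opposite Limits

section E2

variable {X : Scheme.{u}} (U : X.Opens) {W₀ : Scheme.{u}} (w : W₀ ⟶ (U : Scheme.{u}))
  [IsAffineHom w] {Y : Scheme.{u}} (π : Y ⟶ X) [IsAffineHom π] (c : W₀ ⟶ Y)
  (e : c ≫ π = w ≫ U.ι)
  (hc : ∀ V : X.Opens, IsIso (c.appLE (π ⁻¹ᵁ V) ((w ≫ U.ι) ⁻¹ᵁ V)
    (by rw [← Scheme.Hom.comp_preimage, e])))

include hc in
/-- the canonical map `W₀ ⟶ Y ×_X U` is an isomorphism when `W₀` is affine over `U` and `Y` is its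
affine hull over `X` -/
theorem isIso_lift : IsIso (pullback.lift c w e : W₀ ⟶ pullback π U.ι) := by
  have hlf : pullback.lift c w e ≫ pullback.fst π U.ι = c := pullback.lift_fst _ _ _
  have hls : pullback.lift c w e ≫ pullback.snd π U.ι = w := pullback.lift_snd _ _ _
  haveI : IsAffineHom (pullback.snd π U.ι) :=
    MorphismProperty.pullback_snd (P := @IsAffineHom) _ _ inferInstance
  apply isIso_of_affine_over (pullback.snd π U.ι) w (pullback.lift c w e) hls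
  intro u
  obtain ⟨_, ⟨O', hO', rfl⟩, hu, -⟩ :=
    (U : Scheme.{u}).isBasis_affineOpens.exists_subset_of_mem_open (Set.mem_univ u) isOpen_univ
  refine ⟨O', hO', hu, ?_⟩
  have hpre : pullback.snd π U.ι ⁻¹ᵁ O' = pullback.fst π U.ι ⁻¹ᵁ (π ⁻¹ᵁ (U.ι ''ᵁ O')) := by
    rw [← Scheme.Hom.comp_preimage, pullback.condition, Scheme.Hom.comp_preimage,
      Scheme.Hom.preimage_image_eq]
  rw [hpre]
  have heq : (w ≫ U.ι) ⁻¹ᵁ (U.ι ''ᵁ O') =
      pullback.lift c w e ⁻¹ᵁ (pullback.fst π U.ι ⁻¹ᵁ (π ⁻¹ᵁ (U.ι ''ᵁ O'))) := by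
    rw [← Scheme.Hom.comp_preimage, ← Scheme.Hom.comp_preimage, hlf, e]
  have hle2 : (w ≫ U.ι) ⁻¹ᵁ (U.ι ''ᵁ O') ≤
      pullback.lift c w e ⁻¹ᵁ (pullback.fst π U.ι ⁻¹ᵁ (π ⁻¹ᵁ (U.ι ''ᵁ O'))) := le_of_eq heq
  have hfac : (pullback.fst π U.ι).app (π ⁻¹ᵁ (U.ι ''ᵁ O')) ≫
      (pullback.lift c w e).appLE (pullback.fst π U.ι ⁻¹ᵁ (π ⁻¹ᵁ (U.ι ''ᵁ O')))
        ((w ≫ U.ι) ⁻¹ᵁ (U.ι ''ᵁ O')) hle2 =
      c.appLE (π ⁻¹ᵁ (U.ι ''ᵁ O')) ((w ≫ U.ι) ⁻¹ᵁ (U.ι ''ᵁ O'))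
        (by rw [← Scheme.Hom.comp_preimage, e]) := by
    rw [Scheme.Hom.app_eq_appLE, Scheme.Hom.appLE_comp_appLE]
    exact appLE_eq_of_eq hlf _ _ _
  have h1 : IsIso ((pullback.fst π U.ι).app (π ⁻¹ᵁ (U.ι ''ᵁ O'))) := by
    apply (pullback.fst π U.ι).isIso_app
    rw [Scheme.Hom.opensRange_pullbackFst, Scheme.Opens.opensRange_ι]
    apply π.preimage_mono
    exact Scheme.Opens.ι_image_le _ _
  have h2 : IsIso ((pullback.lift c w e).appLE (pullback.fst π U.ι ⁻¹ᵁ (π ⁻¹ᵁ (U.ι ''ᵁ O')))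
        ((w ≫ U.ι) ⁻¹ᵁ (U.ι ''ᵁ O')) hle2) := by
    have h3 := hc (U.ι ''ᵁ O')
    rw [← hfac] at h3
    exact IsIso.of_isIso_comp_left ((pullback.fst π U.ι).app (π ⁻¹ᵁ (U.ι ''ᵁ O'))) _
  exact isIso_app_of_isIso_appLE (pullback.lift c w e) _ _ hle2 heq h2

end E2

section Main

variable {X X₁ : Scheme.{u}} (U : X.Opens) [QuasiCompact U.ι] (hU : Hartogs X U)
  (f : X₁ ⟶ X) [Flat f] [Surjective f] [QuasiCompact f]

include hU in
/-- if the base change of the finite étale cover `W` of `U` to `f⁻¹ U` extends to a finite étale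
cover `T` of `X₁` (`f` fpqc, `U` Hartogs in `X`), then `W` extends to a finite étale cover of `X`. -/
theorem exists_cover_of_fpqc (W : FEt.Cat (U : Scheme.{u})) (T : FEt.Cat X₁)
    (iso : (FEt.restrict (f ⁻¹ᵁ U).ι).obj T ≅ (FEt.restrict (f ∣_ U)).obj W) :
    ∃ Y : FEt.Cat X, Nonempty ((FEt.restrict U.ι).obj Y ≅ W) := by
  haveI hwf : IsFinite W.hom := W.prop.1
  haveI hwe : Etale W.hom := W.prop.2
  haveI htf : IsFinite T.hom := T.prop.1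
  haveI hte : Etale T.hom := T.prop.2
  haveI : QuasiCompact (W.hom ≫ U.ι) := inferInstance
  haveI : QuasiSeparated (W.hom ≫ U.ι) := inferInstance
  obtain ⟨c, e, hc⟩ := exists_toHull (W.hom ≫ U.ι)
  -- the base change of `W`
  have sqW : IsPullback (pullback.fst W.hom (f ∣_ U))
      (pullback.snd W.hom (f ∣_ U) ≫ (f ⁻¹ᵁ U).ι) (W.hom ≫ U.ι) f :=
    (IsPullback.of_hasPullback W.hom (f ∣_ U)).paste_vert (isPullback_morphismRestrict f U)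
  have sqY : IsPullback (pullback.fst (hullπ (W.hom ≫ U.ι)) f)
      (pullback.snd (hullπ (W.hom ≫ U.ι)) f) (hullπ (W.hom ≫ U.ι)) f :=
    IsPullback.of_hasPullback _ f
  have hc₁w : (pullback.fst W.hom (f ∣_ U) ≫ c) ≫ hullπ (W.hom ≫ U.ι) =
      (pullback.snd W.hom (f ∣_ U) ≫ (f ⁻¹ᵁ U).ι) ≫ f := by
    rw [Category.assoc, e]; exact sqW.w
  set c₁ : pullback W.hom (f ∣_ U) ⟶ pullback (hullπ (W.hom ≫ U.ι)) f :=
    pullback.lift (pullback.fst W.hom (f ∣_ U) ≫ c)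
      (pullback.snd W.hom (f ∣_ U) ≫ (f ⁻¹ᵁ U).ι) hc₁w with hc₁
  have e₁ : c₁ ≫ pullback.fst (hullπ (W.hom ≫ U.ι)) f = pullback.fst W.hom (f ∣_ U) ≫ c :=
    pullback.lift_fst _ _ _
  have e₂ : c₁ ≫ pullback.snd (hullπ (W.hom ≫ U.ι)) f =
      pullback.snd W.hom (f ∣_ U) ≫ (f ⁻¹ᵁ U).ι := pullback.lift_snd _ _ _
  -- the `T` side
  let k : pullback T.hom (f ⁻¹ᵁ U).ι ⟶ pullback W.hom (f ∣_ U) := iso.hom.left
  have hk : k ≫ pullback.snd W.hom (f ∣_ U) = pullback.snd T.hom (f ⁻¹ᵁ U).ι :=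
    MorphismProperty.Over.w iso.hom
  haveI : IsIso k :=
    (MorphismProperty.Over.forget FEt.prop ⊤ _ ⋙ Over.forget _).map_isIso iso.hom
  have hr : (k ≫ c₁) ≫ pullback.snd (hullπ (W.hom ≫ U.ι)) f =
      pullback.fst T.hom (f ⁻¹ᵁ U).ι ≫ T.hom := by
    rw [Category.assoc, e₂, ← Category.assoc, hk, pullback.condition]
  haveI : Flat T.hom := inferInstance
  haveI : Flat (T.hom ≫ f) := inferInstance
  have hT : Hartogs T.left ((T.hom ≫ f) ⁻¹ᵁ U) := hartogs_of_flat (T.hom ≫ f) U hU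
  have hιT : ∀ 𝒱 : T.left.Opens, IsIso ((pullback.fst T.hom (f ⁻¹ᵁ U).ι).app 𝒱) := by
    apply hartogs_app
    rw [Scheme.Hom.opensRange_pullbackFst, Scheme.Opens.opensRange_ι]
    exact hT
  haveI : IsAffineHom (pullback.snd (hullπ (W.hom ≫ U.ι)) f) :=
    MorphismProperty.pullback_snd (P := @IsAffineHom) _ _ inferInstance
  obtain ⟨ψ, hψ, hψV⟩ := exists_extension_affine (pullback.fst T.hom (f ⁻¹ᵁ U).ι) hιT T.hom
    (pullback.snd (hullπ (W.hom ≫ U.ι)) f) (k ≫ c₁) hr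
  -- `ψ` is an isomorphism
  haveI hψiso : IsIso ψ := by
    apply isIso_of_affine_over (pullback.snd (hullπ (W.hom ≫ U.ι)) f) T.hom ψ hψ
    intro x₁
    obtain ⟨_, ⟨O, hO, rfl⟩, hxO, -⟩ :=
      X.isBasis_affineOpens.exists_subset_of_mem_open (Set.mem_univ (f x₁)) isOpen_univ
    obtain ⟨_, ⟨O₁, hO₁, rfl⟩, hxO₁, hO₁le⟩ :=
      X₁.isBasis_affineOpens.exists_subset_of_mem_open
        (show x₁ ∈ ((f ⁻¹ᵁ O : X₁.Opens) : Set X₁) from hxO) (f ⁻¹ᵁ O).2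
    refine ⟨O₁, hO₁, hxO₁, ?_⟩
    have hV := hψV O₁
    have hle' : (pullback.snd W.hom (f ∣_ U) ≫ (f ⁻¹ᵁ U).ι) ⁻¹ᵁ O₁ ≤
        c₁ ⁻¹ᵁ (pullback.snd (hullπ (W.hom ≫ U.ι)) f ⁻¹ᵁ O₁) := by
      rw [← Scheme.Hom.comp_preimage, e₂]
    have hc₁iso := isIso_appLE_baseChange (W.hom ≫ U.ι) (hullπ (W.hom ≫ U.ι)) c e f _ _ sqW _ _ sqY
      c₁ e₁ e₂ O hO O₁ hO₁ hO₁le (hO.preimage _)
      ((W.hom ≫ U.ι).isCompact_preimage hO.isCompact)
      ((W.hom ≫ U.ι).isQuasiSeparated_preimage hO.isQuasiSeparated) (hc O) hle'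
    have hkle : (pullback.fst T.hom (f ⁻¹ᵁ U).ι ≫ T.hom) ⁻¹ᵁ O₁ =
        k ⁻¹ᵁ ((pullback.snd W.hom (f ∣_ U) ≫ (f ⁻¹ᵁ U).ι) ⁻¹ᵁ O₁) := by
      rw [← Scheme.Hom.comp_preimage, ← Category.assoc, hk, pullback.condition]
    have hkiso : IsIso (k.appLE ((pullback.snd W.hom (f ∣_ U) ≫ (f ⁻¹ᵁ U).ι) ⁻¹ᵁ O₁)
        ((pullback.fst T.hom (f ⁻¹ᵁ U).ι ≫ T.hom) ⁻¹ᵁ O₁) (le_of_eq hkle)) :=
      isIso_appLE_of_isIso_app k _ _ _ hkle inferInstance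
    have hfac : c₁.appLE _ _ hle' ≫ k.appLE _ _ (le_of_eq hkle) =
        (k ≫ c₁).appLE (pullback.snd (hullπ (W.hom ≫ U.ι)) f ⁻¹ᵁ O₁)
          ((pullback.fst T.hom (f ⁻¹ᵁ U).ι ≫ T.hom) ⁻¹ᵁ O₁)
          (by rw [← Scheme.Hom.comp_preimage, hr]) :=
      Scheme.Hom.appLE_comp_appLE ..
    have hriso : IsIso ((k ≫ c₁).appLE (pullback.snd (hullπ (W.hom ≫ U.ι)) f ⁻¹ᵁ O₁)
          ((pullback.fst T.hom (f ⁻¹ᵁ U).ι ≫ T.hom) ⁻¹ᵁ O₁)
          (by rw [← Scheme.Hom.comp_preimage, hr])) := by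
      rw [← hfac]
      exact IsIso.comp_isIso' hc₁iso hkiso
    rw [← hV] at hriso
    haveI := hriso
    haveI := hιT (T.hom ⁻¹ᵁ O₁)
    have hψa : IsIso (ψ.appLE (pullback.snd (hullπ (W.hom ≫ U.ι)) f ⁻¹ᵁ O₁) (T.hom ⁻¹ᵁ O₁)
        (by rw [← Scheme.Hom.comp_preimage, hψ])) :=
      @IsIso.of_isIso_comp_right _ _ _ _ _ _ _ (hιT (T.hom ⁻¹ᵁ O₁)) hriso
    exact isIso_app_of_isIso_appLE ψ _ _ _ (by rw [← Scheme.Hom.comp_preimage, hψ]) hψa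
  -- hence the base change of the hull is finite étale
  have hπ₁ : FEt.prop (pullback.snd (hullπ (W.hom ≫ U.ι)) f) := by
    have h := T.prop
    rw [← hψ] at h
    exact (MorphismProperty.cancel_left_of_respectsIso FEt.prop ψ _).mp h
  haveI : IsFinite (pullback.snd (hullπ (W.hom ≫ U.ι)) f) := hπ₁.1
  haveI : Etale (pullback.snd (hullπ (W.hom ≫ U.ι)) f) := hπ₁.2
  -- descent
  have hQ : (@Surjective ⊓ @Flat ⊓ @QuasiCompact : MorphismProperty Scheme.{u}) f :=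
    ⟨⟨inferInstance, inferInstance⟩, inferInstance⟩
  haveI hEt : Etale (hullπ (W.hom ≫ U.ι)) :=
    MorphismProperty.of_pullback_snd_of_descendsAlong (P := @Etale)
      (Q := (@Surjective ⊓ @Flat ⊓ @QuasiCompact : MorphismProperty Scheme.{u})) hQ inferInstance
  haveI hUC : UniversallyClosed (hullπ (W.hom ≫ U.ι)) :=
    MorphismProperty.of_pullback_snd_of_descendsAlong (P := @UniversallyClosed)
      (Q := (@Surjective ⊓ @Flat ⊓ @QuasiCompact : MorphismProperty Scheme.{u})) hQ inferInstance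
  haveI hLFT : LocallyOfFiniteType (hullπ (W.hom ≫ U.ι)) :=
    MorphismProperty.of_pullback_snd_of_descendsAlong (P := @LocallyOfFiniteType)
      (Q := (@Surjective ⊓ @Flat ⊓ @QuasiCompact : MorphismProperty Scheme.{u})) hQ inferInstance
  haveI hProper : IsProper (hullπ (W.hom ≫ U.ι)) := { }
  have hFin : IsFinite (hullπ (W.hom ≫ U.ι)) :=
    IsFinite.iff_isProper_and_isAffineHom.mpr ⟨hProper, inferInstance⟩
  -- the restriction to `U`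
  haveI hlift := isIso_lift U W.hom (hullπ (W.hom ≫ U.ι)) c e hc
  refine ⟨MorphismProperty.Over.mk ⊤ (hullπ (W.hom ≫ U.ι)) ⟨hFin, hEt⟩, ⟨?_⟩⟩
  exact (MorphismProperty.Over.isoMk (@asIso _ _ _ _ (pullback.lift c W.hom e) hlift)
    (pullback.lift_snd _ _ _)).symm

end Main

end Groth.Agent.H71.Pure
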