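import Groth.Agent.H71.ParaDesc.Unit
import Groth.Agent.H6.Hartogs

/-!
# The Hartogs property of an open subscheme and its ascent along flat morphisms (helper71)

`Hartogs X U`: for every open `V`, restriction `Γ(X, V) → Γ(X, V ⊓ U)` is bijective
(i.e. `O_X ⟶ j_* O_U` is an isomorphism).  It holds if the local rings outside `U` have depth `≥ 2`
(`X` locally Noetherian), and it ascends along flat morphisms when `U ⟶ X` is quasi-compact.
-/

set_option autoImplicit false
universe u
open CategoryTheory CategoryTheory.Limits AlgebraicGeometry TopologicalSpace Opposite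

namespace Groth.Agent.H71.Pure

open Scheme.Modules Groth.Agent.H71.ParaDesc

/-- functions extend uniquely across the complement of `U` -/
def Hartogs (X : Scheme.{u}) (U : X.Opens) : Prop :=
  ∀ V : X.Opens, Function.Bijective (X.presheaf.map (homOfLE (inf_le_left : V ⊓ U ≤ V)).op)

theorem hartogs_of_depth (X : Scheme.{u}) [IsLocallyNoetherian X] (U : X.Opens)
    (hU : ∀ x : ↥X, x ∉ U → (2 : ℕ∞) ≤ LocCoh.depth (X.presheaf.stalk x) (X.presheaf.stalk x)) :
    Hartogs X U :=
  fun V => Groth.Agent.H6.Hartogs.bijective_res X U hU V (V ⊓ U) rfl inf_le_left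

/-- the unit at the structure sheaf is an isomorphism iff the Hartogs property holds -/
theorem hartogs_of_isIso_unit {X : Scheme.{u}} (U : X.Opens)
    (h : IsIso ((restrictAdjunction U.ι).unit.app (Coh.structureModule X))) : Hartogs X U := by
  intro V
  rw [Hom.isIso_iff_isIso_app] at h
  have hV := h V
  rw [ConcreteCategory.isIso_iff_bijective] at hV
  have hVeq : U.ι ''ᵁ (U.ι ⁻¹ᵁ V) = V ⊓ U := by
    rw [Scheme.Hom.image_preimage_eq_opensRange_inf, Scheme.Opens.opensRange_ι, inf_comm]
  exact (Groth.Agent.H67.ParaExt.bijective_map_congr (Coh.structureModule X).presheaf rfl hVeq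
    (U.ι.image_preimage_le V) inf_le_left).1 hV

/-- **ascent of the Hartogs property** along a flat morphism -/
theorem hartogs_of_flat {X X' : Scheme.{u}} (f : X' ⟶ X) [Flat f] (U : X.Opens)
    [QuasiCompact U.ι] (hA : Hartogs X U) : Hartogs X' (f ⁻¹ᵁ U) := by
  apply hartogs_of_isIso_unit
  set φ := (restrictAdjunction U.ι).unit.app (Coh.structureModule X) with hφ
  haveI hφiso : IsIso φ := Groth.Agent.H67.ParaExt.isIso_unit U hA _
    Groth.Agent.H67.ParaExt.isInvertible_structureModule
  set ψ := (Scheme.Modules.pullback f).map φ with hψ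
  haveI hψiso : IsIso ψ := by rw [hψ]; infer_instance
  have hsq : IsPullback (f ∣_ U) (f ⁻¹ᵁ U).ι U.ι f := isPullback_morphismRestrict f U
  haveI hK₀ : ((restrictFunctor U.ι).obj (Coh.structureModule X)).IsQuasicoherent :=
    Groth.Agent.H18.STL.isQuasicoherent_of_isInvertible
      (Groth.Agent.H67.ParaMono.isInvertible_restrict U.ι _
        Groth.Agent.H67.ParaExt.isInvertible_structureModule)
  haveI hbc := Groth.Agent.H71.PushBC.isIso_bc_of_flat hsq
    ((restrictFunctor U.ι).obj (Coh.structureModule X))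
  haveI i2 : IsIso ((restrictAdjunction (f ⁻¹ᵁ U).ι).unit.app
      ((Scheme.Modules.pullback f).obj ((pushforward U.ι).obj
        ((restrictFunctor U.ι).obj (Coh.structureModule X))))) :=
    isIso_unit_of_iso (f ⁻¹ᵁ U).ι
      (asIso (Groth.Agent.H71.BaseChange.bc U.ι f (f ∣_ U) (f ⁻¹ᵁ U).ι hsq.w
        ((restrictFunctor U.ι).obj (Coh.structureModule X))))
      (isIso_unit_pushforward (f ⁻¹ᵁ U).ι _)
  haveI i2' : IsIso ((restrictAdjunction (f ⁻¹ᵁ U).ι).unit.app
      ((Scheme.Modules.pullback f).obj ((restrictFunctor U.ι ⋙ pushforward U.ι).obj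
        (Coh.structureModule X)))) := i2
  have hn := (restrictAdjunction (f ⁻¹ᵁ U).ι).unit.naturality ψ
  simp only [Functor.id_obj, Functor.id_map] at hn
  haveI i4 : IsIso ((restrictFunctor (f ⁻¹ᵁ U).ι ⋙ pushforward (f ⁻¹ᵁ U).ι).map ψ) := by
    rw [Functor.comp_map]
    infer_instance
  haveI i5 : IsIso ((restrictAdjunction (f ⁻¹ᵁ U).ι).unit.app
      ((Scheme.Modules.pullback f).obj (Coh.structureModule X))) := by
    have h5 := (IsIso.eq_comp_inv _).mpr hn.symm
    rw [h5]
    infer_instance
  exact isIso_unit_of_iso (f ⁻¹ᵁ U).ι (Groth.Agent.H5.PullbackUnit.pullbackUnitIso f).symm i5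

end Groth.Agent.H71.Pure
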