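import Groth.Agent.H71.Pure.HullBC
import Groth.Agent.H71.Pure.Hartogs

/-!
# Extension of morphisms into schemes affine over a base across a Hartogs open (helper71)
-/

set_option autoImplicit false
universe u

namespace Groth.Agent.H71.Pure

open CategoryTheory AlgebraicGeometry TopologicalSpace Opposite Limits

theorem isIso_app_of_isIso_appLE {X Y : Scheme.{u}} (h : X ⟶ Y) (A : Y.Opens) (B : X.Opens)
    (e : B ≤ h ⁻¹ᵁ A) (hB : B = h ⁻¹ᵁ A) (hi : IsIso (h.appLE A B e)) : IsIso (h.app A) := by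
  subst hB
  rwa [← Scheme.Hom.app_eq_appLE] at hi

theorem isIso_appLE_of_isIso_app {X Y : Scheme.{u}} (h : X ⟶ Y) (A : Y.Opens) (B : X.Opens)
    (e : B ≤ h ⁻¹ᵁ A) (hB : B = h ⁻¹ᵁ A) (hi : IsIso (h.app A)) : IsIso (h.appLE A B e) := by
  subst hB
  rwa [← Scheme.Hom.app_eq_appLE]

/-- an open immersion onto a Hartogs open induces isomorphisms on all sections -/
theorem hartogs_app {Z T : Scheme.{u}} (i : Z ⟶ T) [IsOpenImmersion i]
    (h : Hartogs T i.opensRange) (𝒱 : T.Opens) : IsIso (i.app 𝒱) := by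
  have h1 : IsIso (T.presheaf.map (homOfLE (inf_le_left : 𝒱 ⊓ i.opensRange ≤ 𝒱)).op) :=
    (ConcreteCategory.isIso_iff_bijective _).mpr (h 𝒱)
  have h2 : IsIso (i.app (𝒱 ⊓ i.opensRange)) := i.isIso_app _ inf_le_right
  have hpre : i ⁻¹ᵁ (𝒱 ⊓ i.opensRange) = i ⁻¹ᵁ 𝒱 := by
    ext z
    simp only [Scheme.Hom.coe_preimage, Opens.coe_inf, Set.preimage_inter, Set.mem_inter_iff,
      Set.mem_preimage, SetLike.mem_coe, and_iff_left_iff_imp]
    intro _
    exact ⟨z, rfl⟩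
  have nat := i.naturality (homOfLE (inf_le_left : 𝒱 ⊓ i.opensRange ≤ 𝒱)).op
  have h3 : IsIso (Z.presheaf.map ((Opens.map i.base).map
      (homOfLE (inf_le_left : 𝒱 ⊓ i.opensRange ≤ 𝒱))).op) := by
    have : ∀ (A B : Z.Opens) (k : A ⟶ B), A = B → IsIso (Z.presheaf.map k.op) := by
      rintro A B k rfl
      rw [Subsingleton.elim k (𝟙 _), op_id, CategoryTheory.Functor.map_id]
      infer_instance
    exact this _ _ _ hpre
  have h4 : IsIso (i.app 𝒱 ≫ Z.presheaf.map ((Opens.map i.base).map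
      (homOfLE (inf_le_left : 𝒱 ⊓ i.opensRange ≤ 𝒱))).op) := by
    have h5 := IsIso.comp_isIso' h1 h2
    rw [nat] at h5
    exact h5
  exact IsIso.of_isIso_comp_right _ (Z.presheaf.map ((Opens.map i.base).map
      (homOfLE (inf_le_left : 𝒱 ⊓ i.opensRange ≤ 𝒱))).op)

section Extension

variable {Z T B Y' : Scheme.{u}} (i : Z ⟶ T) (hi : ∀ 𝒱 : T.Opens, IsIso (i.app 𝒱))
  (t : T ⟶ B) (p : Y' ⟶ B) [IsAffineHom p] (r : Z ⟶ Y') (hr : r ≫ p = i ≫ t)

include hi in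
theorem isIso_algHom_of_hartogs : IsIso (AffAlg.algHom t (i ≫ t) i rfl) := by
  haveI : ∀ V : (Opens B)ᵒᵖ, IsIso ((AffAlg.algHom t (i ≫ t) i rfl).app V) := by
    intro V
    have h1 := Groth.Agent.H18.algHom_app_eq t i V.unop
    have h2 : (AffAlg.algHom t (i ≫ t) i rfl).app V = i.app (t ⁻¹ᵁ V.unop) := h1
    rw [h2]
    exact hi _
  exact NatIso.isIso_of_isIso_app _

include hi hr in
/-- extension of `r : Z ⟶ Y'` (over `B`, `Y'` affine over `B`) across the Hartogs open immersion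
`i : Z ⟶ T`, with the induced maps on sections -/
theorem exists_extension_affine :
    ∃ (ψ : T ⟶ Y') (hψ : ψ ≫ p = t), ∀ V : B.Opens,
      ψ.appLE (p ⁻¹ᵁ V) (t ⁻¹ᵁ V) (by rw [← Scheme.Hom.comp_preimage, hψ]) ≫ i.app (t ⁻¹ᵁ V) =
        r.appLE (p ⁻¹ᵁ V) ((i ≫ t) ⁻¹ᵁ V) (by rw [← Scheme.Hom.comp_preimage, hr]) := by
  haveI := isIso_algHom_of_hartogs i hi t
  let ω : AffAlg.alg p ⟶ AffAlg.alg t :=
    AffAlg.algHom p (i ≫ t) r hr ≫ inv (AffAlg.algHom t (i ≫ t) i rfl)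
  have hω : p.c ≫ ω = t.c := by
    have h1 := AffAlg.algHom_comm p (i ≫ t) r hr
    have h2 := AffAlg.algHom_comm t (i ≫ t) i rfl
    show p.c ≫ AffAlg.algHom p (i ≫ t) r hr ≫ inv (AffAlg.algHom t (i ≫ t) i rfl) = t.c
    rw [← Category.assoc, h1, ← h2, Category.assoc, IsIso.hom_inv_id, Category.comp_id]
  obtain ⟨⟨ψ, hψ⟩, hc⟩ := Groth.Agent.H18.algOf_surjective p t ⟨ω, hω⟩
  have hc' : AffAlg.algHom p t ψ hψ = ω := congrArg Subtype.val hc
  refine ⟨ψ, hψ, fun V => ?_⟩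
  have h1 := Groth.Agent.H18.algHom_app_eq_appLE p t ψ hψ V
  have h2 := Groth.Agent.H18.algHom_app_eq_appLE p (i ≫ t) r hr V
  have h3 : (AffAlg.algHom t (i ≫ t) i rfl).app (op V) = i.app (t ⁻¹ᵁ V) :=
    Groth.Agent.H18.algHom_app_eq t i V
  have key : ω ≫ AffAlg.algHom t (i ≫ t) i rfl = AffAlg.algHom p (i ≫ t) r hr := by
    simp only [ω, Category.assoc, IsIso.inv_hom_id, Category.comp_id]
  have keyV : (AffAlg.algHom p t ψ hψ).app (op V) ≫
      (AffAlg.algHom t (i ≫ t) i rfl).app (op V) =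
        (AffAlg.algHom p (i ≫ t) r hr).app (op V) := by
    rw [hc', ← NatTrans.comp_app, key]
  rw [h1, h2] at keyV
  exact keyV

end Extension

end Groth.Agent.H71.Pure
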