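import Groth.Agent.H71.Pure.AffHull
import Mathlib.AlgebraicGeometry.Morphisms.Flat

/-!
# The affine hull commutes with flat base change, on sections (helper71)
-/

set_option autoImplicit false
universe u

namespace Groth.Agent.H71.Pure

open CategoryTheory AlgebraicGeometry TopologicalSpace Opposite Limits

section Cat

variable {C : Type*} [Category C]

/-- comparison of two pushouts whose spans differ by an isomorphism on one leg -/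
theorem isIso_of_isPushout {Z A A' B P P' : C} {a : Z ⟶ A} {b : Z ⟶ B} {i : A ⟶ P} {k : B ⟶ P}
    {a' : Z ⟶ A'} {i' : A' ⟶ P'} {k' : B ⟶ P'}
    (po : IsPushout a b i k) (po' : IsPushout a' b i' k') (γ : A ⟶ A') [IsIso γ] (γ₁ : P ⟶ P')
    (h1 : a ≫ γ = a') (h2 : i ≫ γ₁ = γ ≫ i') (h3 : k ≫ γ₁ = k') : IsIso γ₁ := by
  have hw : a' ≫ inv γ ≫ i = b ≫ k := by
    rw [← h1, Category.assoc, IsIso.hom_inv_id_assoc, po.w]
  refine ⟨po'.desc (inv γ ≫ i) k hw, ?_, ?_⟩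
  · apply po.hom_ext
    · rw [← Category.assoc, h2, Category.assoc, po'.inl_desc, IsIso.hom_inv_id_assoc,
        Category.comp_id]
    · rw [← Category.assoc, h3, po'.inr_desc, Category.comp_id]
  · apply po'.hom_ext
    · rw [← Category.assoc, po'.inl_desc, Category.assoc, h2, IsIso.inv_hom_id_assoc,
        Category.comp_id]
    · rw [← Category.assoc, po'.inr_desc, h3, Category.comp_id]

end Cat

theorem appLE_eq_of_eq {X Y : Scheme.{u}} {f f' : X ⟶ Y} (h : f = f') (U : Y.Opens) (V : X.Opens)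
    (e : V ≤ f ⁻¹ᵁ U) : f.appLE U V e = f'.appLE U V (h ▸ e) := by
  subst h; rfl

section BC

variable {W X Y X₁ W₁ Y₁ : Scheme.{u}} (g : W ⟶ X) (π : Y ⟶ X) (c : W ⟶ Y) (e : c ≫ π = g)
  (f : X₁ ⟶ X) [Flat f]
  (pr : W₁ ⟶ W) (g₁ : W₁ ⟶ X₁) (sqW : IsPullback pr g₁ g f)
  (q : Y₁ ⟶ Y) (π₁ : Y₁ ⟶ X₁) (sqY : IsPullback q π₁ π f)
  (c₁ : W₁ ⟶ Y₁) (e₁ : c₁ ≫ q = pr ≫ c) (e₂ : c₁ ≫ π₁ = g₁)

include e sqW sqY e₁ e₂ in
/-- if `c : W ⟶ Y` over `X` induces an isomorphism on sections over the preimages of the affine open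
`O`, with `Y` affine over `O` and `W` qcqs over `O`, then so does its flat base change over an
affine open `O₁ ⊆ f⁻¹ O`. -/
theorem isIso_appLE_baseChange (O : X.Opens) (hO : IsAffineOpen O) (O₁ : X₁.Opens)
    (hO₁ : IsAffineOpen O₁) (hle : O₁ ≤ f ⁻¹ᵁ O) (hY : IsAffineOpen (π ⁻¹ᵁ O))
    (hWc : IsCompact (X := W) (g ⁻¹ᵁ O)) (hWq : IsQuasiSeparated (α := W) (g ⁻¹ᵁ O))
    (hc : IsIso (c.appLE (π ⁻¹ᵁ O) (g ⁻¹ᵁ O) (by rw [← Scheme.Hom.comp_preimage, e])))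
    (hle' : g₁ ⁻¹ᵁ O₁ ≤ c₁ ⁻¹ᵁ (π₁ ⁻¹ᵁ O₁)) :
    IsIso (c₁.appLE (π₁ ⁻¹ᵁ O₁) (g₁ ⁻¹ᵁ O₁) hle') := by
  have hUYY : π₁ ⁻¹ᵁ O₁ = q ⁻¹ᵁ (π ⁻¹ᵁ O) ⊓ π₁ ⁻¹ᵁ O₁ := by
    refine (inf_eq_right.mpr ?_).symm
    rw [← Scheme.Hom.comp_preimage, sqY.w, Scheme.Hom.comp_preimage]
    exact π₁.preimage_mono hle
  have hUYW : g₁ ⁻¹ᵁ O₁ = pr ⁻¹ᵁ (g ⁻¹ᵁ O) ⊓ g₁ ⁻¹ᵁ O₁ := by
    refine (inf_eq_right.mpr ?_).symm
    rw [← Scheme.Hom.comp_preimage, sqW.w, Scheme.Hom.comp_preimage]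
    exact g₁.preimage_mono hle
  have poY := (isIso_pushoutSection_iff sqY hle (le_refl (π ⁻¹ᵁ O)) hUYY).mp
    (isIso_pushoutSection_of_isAffineOpen sqY hle (le_refl _) hUYY hO hO₁ hY)
  have poW := (isIso_pushoutSection_iff sqW hle (le_refl (g ⁻¹ᵁ O)) hUYW).mp
    (isIso_pushoutSection_of_isQuasiSeparated_of_flat_right sqW hle (le_refl _) hUYW hO hO₁
      hWc hWq)
  have hcle : g ⁻¹ᵁ O ≤ c ⁻¹ᵁ (π ⁻¹ᵁ O) := by
    rw [← Scheme.Hom.comp_preimage]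
    exact le_of_eq (by rw [e])
  haveI : IsIso (c.appLE (π ⁻¹ᵁ O) (g ⁻¹ᵁ O) hcle) := hc
  refine isIso_of_isPushout poY poW (c.appLE (π ⁻¹ᵁ O) (g ⁻¹ᵁ O) hcle) _ ?_ ?_ ?_
  · rw [Scheme.Hom.appLE_comp_appLE]
    exact (appLE_eq_of_eq e _ _ _)
  · rw [Scheme.Hom.appLE_comp_appLE, Scheme.Hom.appLE_comp_appLE]
    exact (appLE_eq_of_eq e₁ _ _ _)
  · rw [Scheme.Hom.appLE_comp_appLE]
    exact (appLE_eq_of_eq e₂ _ _ _)

end BC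

end Groth.Agent.H71.Pure
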