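import Groth.Agent.H71.Pure.EssSurj
import Groth.Agent.H6.PurityFF
import Groth.Prelude.Def_SGA2

/-!
# fpqc descent of pure pairs (helper71): S2937
-/

set_option autoImplicit false
universe u

namespace Groth.Agent.H71.Pure

open CategoryTheory AlgebraicGeometry TopologicalSpace Opposite Limits

/-- fpqc descent of essential surjectivity of restriction of finite étale covers to a Hartogs open -/
theorem essSurj_restrict_of_fpqc {X X₁ : Scheme.{u}} (U : X.Opens) [QuasiCompact U.ι]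
    (hU : Hartogs X U) (f : X₁ ⟶ X) [Flat f] [Surjective f] [QuasiCompact f]
    (h : (FEt.restrict (f ⁻¹ᵁ U).ι).EssSurj) : (FEt.restrict U.ι).EssSurj := by
  refine ⟨fun W => ?_⟩
  obtain ⟨T, ⟨iso⟩⟩ := h.mem_essImage ((FEt.restrict (f ∣_ U)).obj W)
  obtain ⟨Y, ⟨e⟩⟩ := exists_cover_of_fpqc U hU f W T iso
  exact ⟨Y, ⟨e⟩⟩

/-- transport of essential surjectivity along an isomorphism of the sources -/
theorem essSurj_of_iso_comp {A A' B : Scheme.{u}} (j : A ⟶ B) (j' : A' ⟶ B) (θ : A ≅ A')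
    (hθ : θ.hom ≫ j' = j) (h : (FEt.restrict j').EssSurj) : (FEt.restrict j).EssSurj := by
  refine ⟨fun W => ?_⟩
  let W' : FEt.Cat A' := MorphismProperty.Over.mk ⊤ (W.hom ≫ θ.hom)
    ((MorphismProperty.cancel_right_of_respectsIso FEt.prop W.hom θ.hom).mpr W.prop)
  obtain ⟨Y, ⟨a⟩⟩ := h.mem_essImage W'
  refine ⟨Y, ⟨?_⟩⟩
  let aL : pullback Y.hom j' ⟶ W.left := a.hom.left
  have haL : aL ≫ W.hom ≫ θ.hom = pullback.snd Y.hom j' := MorphismProperty.Over.w a.hom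
  haveI : IsIso aL :=
    (MorphismProperty.Over.forget FEt.prop ⊤ _ ⋙ Over.forget _).map_isIso a.hom
  let m : pullback Y.hom j ⟶ pullback Y.hom j' :=
    pullback.map Y.hom j Y.hom j' (𝟙 _) θ.hom (𝟙 _) (by simp) (by simp [hθ])
  haveI : IsIso m := by dsimp only [m]; infer_instance
  have hmaL : IsIso (m ≫ aL) := IsIso.comp_isIso' ‹IsIso m› ‹IsIso aL›
  refine MorphismProperty.Over.isoMk (@asIso _ _ _ _ (m ≫ aL) hmaL) ?_
  rw [← cancel_mono θ.hom]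
  show ((m ≫ aL) ≫ W.hom) ≫ θ.hom = _
  rw [Category.assoc, Category.assoc, haL]
  exact pullback.lift_snd _ _ _

/-- **S2937**: fpqc descent of pure pairs. -/
theorem isPurePair_of_fpqc (X X₁ : Scheme.{u}) [IsLocallyNoetherian X] (U : X.Opens)
    (hU : ∀ x : X, x ∉ U → (2 : ℕ∞) ≤ LocCoh.depth (X.presheaf.stalk x) (X.presheaf.stalk x))
    (f : X₁ ⟶ X) [Flat f] [Surjective f] [QuasiCompact f]
    (h : SGA2.IsPurePair X₁ (f ⁻¹ᵁ U)) : SGA2.IsPurePair X U := by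
  intro V
  have hP : Groth.Agent.H6.PurityFF.HPair (X.homOfLE (inf_le_left : V ⊓ U ≤ V)) :=
    (Groth.Agent.H6.PurityFF.hpair_ι U hU).of_isPullback (isPullback_opens_inf V U)
  haveI := Groth.Agent.H6.PurityFF.restrict_full _ hP
  haveI := Groth.Agent.H6.PurityFF.restrict_faithful _ hP
  -- essential surjectivity
  haveI : Surjective (f ∣_ V) := IsZariskiLocalAtTarget.restrict ‹Surjective f› V
  have hH : Hartogs (V : Scheme.{u}) (V.ι ⁻¹ᵁ U) :=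
    hartogs_of_flat V.ι U (hartogs_of_depth X U hU)
  -- upstairs
  haveI hup := h (f ⁻¹ᵁ V)
  have hup' : (FEt.restrict (X₁.homOfLE (inf_le_left : f ⁻¹ᵁ V ⊓ f ⁻¹ᵁ U ≤ f ⁻¹ᵁ V))).EssSurj :=
    inferInstance
  have hr1 : Set.range ((f ∣_ V) ⁻¹ᵁ (V.ι ⁻¹ᵁ U)).ι =
      Set.range (X₁.homOfLE (inf_le_left : f ⁻¹ᵁ V ⊓ f ⁻¹ᵁ U ≤ f ⁻¹ᵁ V)) := by
    have h1 : ((f ∣_ V) ⁻¹ᵁ (V.ι ⁻¹ᵁ U)).ι.opensRange =
        (X₁.homOfLE (inf_le_left : f ⁻¹ᵁ V ⊓ f ⁻¹ᵁ U ≤ f ⁻¹ᵁ V)).opensRange := by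
      rw [Scheme.Opens.opensRange_ι, Scheme.opensRange_homOfLE, ← Scheme.Hom.comp_preimage,
        morphismRestrict_ι, Scheme.Hom.comp_preimage]
      ext x
      simp only [Scheme.Hom.coe_preimage, Opens.coe_inf, Set.preimage_inter, Set.mem_inter_iff,
        Set.mem_preimage, SetLike.mem_coe, iff_and_self]
      intro _
      exact x.2
    rw [← Scheme.Hom.coe_opensRange, ← Scheme.Hom.coe_opensRange, h1]
  have hes1 : (FEt.restrict ((f ∣_ V) ⁻¹ᵁ (V.ι ⁻¹ᵁ U)).ι).EssSurj :=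
    essSurj_of_iso_comp _ _ (IsOpenImmersion.isoOfRangeEq _ _ hr1)
      (IsOpenImmersion.isoOfRangeEq_hom_fac _ _ hr1) hup'
  have hes2 : (FEt.restrict (V.ι ⁻¹ᵁ U).ι).EssSurj :=
    essSurj_restrict_of_fpqc (V.ι ⁻¹ᵁ U) hH (f ∣_ V) hes1
  have hr2 : Set.range (X.homOfLE (inf_le_left : V ⊓ U ≤ V)) = Set.range (V.ι ⁻¹ᵁ U).ι := by
    have h1 : (X.homOfLE (inf_le_left : V ⊓ U ≤ V)).opensRange = (V.ι ⁻¹ᵁ U).ι.opensRange := by
      rw [Scheme.Opens.opensRange_ι, Scheme.opensRange_homOfLE]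
      ext x
      simp only [Scheme.Hom.coe_preimage, Opens.coe_inf, Set.preimage_inter, Set.mem_inter_iff,
        Set.mem_preimage, SetLike.mem_coe, and_iff_right_iff_imp]
      intro _
      exact x.2
    rw [← Scheme.Hom.coe_opensRange, ← Scheme.Hom.coe_opensRange, h1]
  haveI : (FEt.restrict (X.homOfLE (inf_le_left : V ⊓ U ≤ V))).EssSurj :=
    essSurj_of_iso_comp _ _ (IsOpenImmersion.isoOfRangeEq _ _ hr2)
      (IsOpenImmersion.isoOfRangeEq_hom_fac _ _ hr2) hes2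
  exact { }

end Groth.Agent.H71.Pure
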